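set_option autoImplicit false
namespace Cfsg.Agent.Lib.Helper6.TCD.SuzU4
noncomputable def NC (i : Nat) : Nat := Nat.land (Nat.shiftRight 0x80004000000000000000020000e000000000000000080003000000000000000000000c000000000000000080002800000000000000000000a0000000000000000800020000000000000000100008000000000000000080001800000000000000010000600000000000000008000100000000000000000000040000000000000000800008000000000000000000002000000000000000080000400000000000000010000100000000000000008000000000000000000001000000000000000000000000000000000000000000000000 (Nat.mul 86 (Nat.land i 511))) 77371252455336267181195263
end Cfsg.Agent.Lib.Helper6.TCD.SuzU4
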