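set_option autoImplicit false
namespace Cfsg.Agent.Lib.Helper6.TCD.SuzU4
noncomputable def WD (i : Nat) : Nat := Nat.land (Nat.shiftRight 0x12120400000021210400000002020400000020200401010101010a10101010100a000000002202000000001102000000000002 (Nat.mul 48 (Nat.land i 15))) 281474976710655
end Cfsg.Agent.Lib.Helper6.TCD.SuzU4
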