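set_option autoImplicit false
namespace Cfsg.Agent.Lib.Helper6.TCD.SuzU4
noncomputable def SH (i : Nat) : Nat := Nat.land (Nat.shiftRight 0x6e000200000e8000480001c000088000330000e000076000260000d00003c00017800060000300000d000072000260000d80004c000160000700002b0000c00004e000140000a00002c0001a800090000320001200005a0002000009400028000108000400003100011000044000120000b8000440000f8000400002a000100000360000c0000a40003c0000e000038000260000f0000320000c000090000380000a80002000016000050000460001a000080000340000f000060000130000400001e000040000400000c0000e8000580001a0000b0000300001400003400008000048000080001700009000014000060000500002400003800008000120000800000a000000000440001c000058000280000e000070000060000000003000018000040000280000600004000002000000000100000c000010000100000000001 (Nat.mul 43 (Nat.land i 1023))) 8796093022207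
end Cfsg.Agent.Lib.Helper6.TCD.SuzU4
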